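import Mathlib.Algebra.MvPolynomial.PDeriv
import Mathlib.RingTheory.Smooth.Basic
import Mathlib.RingTheory.FinitePresentation
import Mathlib.Tactic

/-!
# Smoothness of a hypersurface in affine space over a domain: the Jacobian criterion
-/

set_option autoImplicit false
set_option linter.style.haveILetI false

universe u

open MvPolynomial

namespace Groth.Agent.HirzCurve

/-- Taylor formula for algebra maps with square-zero difference. -/
theorem taylor {A : Type u} [CommRing A] {σ : Type} [Fintype σ] {Q : Type u} [CommRing Q] [Algebra A Q]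
    (J : Ideal Q) (hJ : J ^ 2 = ⊥) (φ ψ : MvPolynomial σ A →ₐ[A] Q) (h : ∀ j, ψ (X j) - φ (X j) ∈ J)
    (p : MvPolynomial σ A) :
    ψ p - φ p = ∑ j, φ (pderiv j p) * (ψ (X j) - φ (X j)) := by
  classical
  induction p using MvPolynomial.induction_on with
  | C a => simp [show (C a : MvPolynomial σ A) = algebraMap A _ a from rfl]
  | add p q hp hq =>
    simp only [map_add, add_mul, Finset.sum_add_distrib, ← hp, ← hq]
    ring
  | mul_X p i hp =>
    have hm : ψ p - φ p ∈ J := hp ▸ J.sum_mem fun j _ => J.mul_mem_left _ (h j)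
    have h0 : (ψ p - φ p) * (ψ (X i) - φ (X i)) = 0 := by
      rw [← Ideal.mem_bot, ← hJ, pow_two]
      exact Ideal.mul_mem_mul hm (h i)
    simp only [pderiv_mul, map_add, map_mul, add_mul, Finset.sum_add_distrib, pderiv_X]
    have h1 : ∑ j, φ (pderiv j p) * φ (X i) * (ψ (X j) - φ (X j)) = (ψ p - φ p) * φ (X i) := by
      rw [hp, Finset.sum_mul]
      exact Finset.sum_congr rfl fun j _ => by ring
    have h2 : ∑ j, φ p * φ ((Pi.single j 1 : σ → MvPolynomial σ A) i) * (ψ (X j) - φ (X j)) =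
        φ p * (ψ (X i) - φ (X i)) := by
      rw [Finset.sum_eq_single i]
      · simp
      · intro j _ hj; simp [Pi.single_eq_of_ne (Ne.symm hj)]
      · simp
    rw [h1, h2]
    linear_combination h0

variable {k : Type u} [CommRing k] [IsDomain k] {m : ℕ}

/-- The Jacobian ideal of a hypersurface. -/
noncomputable def jac (f : MvPolynomial (Fin m) k) : Ideal (MvPolynomial (Fin m) k) :=
  Ideal.span {f} ⊔ Ideal.span (Set.range fun j => pderiv j f)

theorem smooth_of_jac (f : MvPolynomial (Fin m) k) (h : jac f = ⊤) :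
    Algebra.Smooth k (MvPolynomial (Fin m) k ⧸ Ideal.span {f}) := by
  haveI : Algebra.FinitePresentation k (MvPolynomial (Fin m) k ⧸ Ideal.span {f}) :=
    Algebra.FinitePresentation.quotient ⟨{f}, by simp⟩
  obtain ⟨u, hu, w, hw, huw⟩ := Submodule.mem_sup.1 (show (1 : MvPolynomial (Fin m) k) ∈ jac f by rw [h]; trivial)
  obtain ⟨c, rfl⟩ := Ideal.mem_span_singleton'.1 hu
  obtain ⟨a, rfl⟩ := (Ideal.mem_span_range_iff_exists_fun).1 hw
  refine ⟨Algebra.FormallySmooth.of_comp_surjective fun C _ _ I hI g => ?_, inferInstance⟩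
  let g₀ : MvPolynomial (Fin m) k →ₐ[k] C ⧸ I := g.comp (Ideal.Quotient.mkₐ k _)
  choose y hy using fun j => Ideal.Quotient.mk_surjective (g₀ (X j))
  let φ : MvPolynomial (Fin m) k →ₐ[k] C := aeval y
  have hφ : (Ideal.Quotient.mkₐ k I).comp φ = g₀ := MvPolynomial.algHom_ext fun j => by simp [φ, hy]
  have he : φ f ∈ I := by
    refine Ideal.Quotient.eq_zero_iff_mem.1 ((AlgHom.congr_fun hφ f).trans ?_)
    simp [g₀]
  let ψ : MvPolynomial (Fin m) k →ₐ[k] C := aeval fun j => y j - φ (a j) * φ f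
  have hd : ∀ j, ψ (X j) - φ (X j) = -(φ (a j) * φ f) := fun j => by simp [ψ, φ]
  have hdI : ∀ j, ψ (X j) - φ (X j) ∈ I := fun j => by
    rw [hd j]; exact I.neg_mem (I.mul_mem_left _ he)
  have hψ : ψ f = 0 := by
    have ht := taylor I hI φ ψ hdI f
    have h1 : φ c * φ f + ∑ j, φ (a j) * φ (pderiv j f) = 1 := by
      have := congrArg φ huw
      simpa [map_sum] using this
    have h2 : φ f * φ f = 0 := by
      rw [← Ideal.mem_bot, ← hI, pow_two]
      exact Ideal.mul_mem_mul he he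
    have h3 : ∑ j, φ (pderiv j f) * (ψ (X j) - φ (X j)) = -((∑ j, φ (a j) * φ (pderiv j f)) * φ f) := by
      rw [Finset.sum_mul, ← Finset.sum_neg_distrib]
      exact Finset.sum_congr rfl fun j _ => by rw [hd j]; ring
    linear_combination ht + h3 - φ f * h1 + φ c * h2
  refine ⟨Ideal.Quotient.liftₐ _ ψ fun x hx => ?_, ?_⟩
  · obtain ⟨b, rfl⟩ := Ideal.mem_span_singleton'.1 hx
    simp [hψ]
  · refine Ideal.Quotient.algHom_ext k (MvPolynomial.algHom_ext fun j => ?_)
    have : Ideal.Quotient.mk I (ψ (X j)) = Ideal.Quotient.mk I (φ (X j)) := Ideal.Quotient.eq.2 (hdI j)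
    show Ideal.Quotient.mk I (ψ (X j)) = g (Ideal.Quotient.mk _ (X j))
    simpa [φ, hy, g₀] using this

theorem jac_of_smooth (f : MvPolynomial (Fin m) k) (hf : f ≠ 0)
    [Algebra.Smooth k (MvPolynomial (Fin m) k ⧸ Ideal.span {f})] : jac f = ⊤ := by
  let Q := MvPolynomial (Fin m) k ⧸ Ideal.span {f * f}
  let J : Ideal Q := Ideal.span {Ideal.Quotient.mk _ f}
  have hJ : J ^ 2 = ⊥ := by
    rw [Ideal.span_singleton_pow, Ideal.span_singleton_eq_bot, pow_two, ← map_mul,
      Ideal.Quotient.eq_zero_iff_mem]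
    exact Ideal.mem_span_singleton_self _
  let φ : MvPolynomial (Fin m) k →ₐ[k] Q := Ideal.Quotient.mkₐ k _
  let pr : Q →ₐ[k] MvPolynomial (Fin m) k ⧸ Ideal.span {f} :=
    Ideal.Quotient.factorₐ k (Ideal.span_singleton_le_span_singleton.2 (dvd_mul_left f f))
  have hker : RingHom.ker pr = J := by
    ext x
    obtain ⟨x, rfl⟩ := Ideal.Quotient.mk_surjective x
    rw [RingHom.mem_ker, Ideal.mem_span_singleton]
    constructor
    · intro hx
      obtain ⟨b, rfl⟩ := Ideal.mem_span_singleton'.1 (Ideal.Quotient.eq_zero_iff_mem.1 (show Ideal.Quotient.mk (Ideal.span {f}) x = 0 from hx))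
      exact ⟨Ideal.Quotient.mk _ b, (congrArg (Ideal.Quotient.mk _) (mul_comm b f)).trans (map_mul _ _ _)⟩
    · rintro ⟨b, hb⟩
      rw [hb, map_mul]
      show Ideal.Quotient.mk (Ideal.span {f}) f * _ = 0
      rw [Ideal.Quotient.eq_zero_iff_mem.2 (Ideal.mem_span_singleton_self f), zero_mul]
  have hsurj : Function.Surjective pr := fun x => by
    obtain ⟨x, rfl⟩ := Ideal.Quotient.mk_surjective x
    exact ⟨Ideal.Quotient.mk _ x, rfl⟩
  obtain ⟨s, hs⟩ : ∃ s : (MvPolynomial (Fin m) k ⧸ Ideal.span {f}) →ₐ[k] Q, ∀ x, pr (s x) = x :=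
    ⟨Algebra.FormallySmooth.liftOfSurjective (AlgHom.id k _) pr hsurj ⟨2, (congrArg (· ^ 2) hker).trans hJ⟩,
      Algebra.FormallySmooth.liftOfSurjective_apply _ _ _ _⟩
  let ψ : MvPolynomial (Fin m) k →ₐ[k] Q := s.comp (Ideal.Quotient.mkₐ k _)
  have hd : ∀ j, ψ (X j) - φ (X j) ∈ J := fun j => by
    rw [← hker, RingHom.mem_ker, map_sub, sub_eq_zero]
    exact hs _
  choose a ha using fun j => Ideal.mem_span_singleton'.1 (hd j)
  choose a' ha' using fun j => Ideal.Quotient.mk_surjective (a j)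
  have hψ : ψ f = 0 := by
    simp [ψ, Ideal.Quotient.eq_zero_iff_mem.2 (Ideal.mem_span_singleton_self f)]
  have ht := taylor J hJ φ ψ hd f
  rw [hψ, zero_sub] at ht
  have hmem : f + ∑ j, pderiv j f * (a' j * f) ∈ Ideal.span {f * f} := by
    rw [← Ideal.Quotient.eq_zero_iff_mem, map_add, map_sum]
    have : ∀ j, φ (pderiv j f) * (ψ (X j) - φ (X j)) =
        Ideal.Quotient.mk (Ideal.span {f * f}) (pderiv j f * (a' j * f)) := fun j => by
      rw [← ha j, ← ha' j, map_mul, map_mul]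
      rfl
    rw [← Finset.sum_congr rfl fun j _ => this j, ← ht]
    exact add_neg_cancel _
  obtain ⟨c, hc⟩ := Ideal.mem_span_singleton'.1 hmem
  have key : 1 + ∑ j, pderiv j f * a' j = c * f := by
    apply mul_left_cancel₀ hf
    rw [mul_add, mul_one, Finset.mul_sum, show f * (c * f) = c * (f * f) by ring, hc]
    exact congrArg _ (Finset.sum_congr rfl fun j _ => by ring)
  refine (Ideal.eq_top_iff_one _).2 ?_
  rw [show (1 : MvPolynomial (Fin m) k) = c * f - ∑ j, a' j * pderiv j f by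
    rw [← key]; simp only [mul_comm (a' _)]; ring]
  exact sub_mem (Ideal.mem_sup_left (Ideal.mem_span_singleton'.2 ⟨c, rfl⟩))
    (Ideal.mem_sup_right (Ideal.sum_mem _ fun j _ => Ideal.mul_mem_left _ _ (Ideal.subset_span ⟨j, rfl⟩)))

theorem smooth_iff_jac (f : MvPolynomial (Fin m) k) (hf : f ≠ 0) :
    Algebra.Smooth k (MvPolynomial (Fin m) k ⧸ Ideal.span {f}) ↔ jac f = ⊤ :=
  ⟨fun _ => jac_of_smooth f hf, smooth_of_jac f⟩

end Groth.Agent.HirzCurve
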