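import Groth.Agent.HirzCurve.Hypersurface
import Mathlib.RingTheory.Polynomial.Resultant.Basic
import Mathlib.RingTheory.AdjoinRoot

/-!
# Smoothness of curves `q u + ξ v = 0` on a Hirzebruch surface and the resultant
-/

set_option autoImplicit false
set_option linter.style.haveILetI false

universe u

open Polynomial

namespace Groth.Agent.HirzCurve

variable {k : Type u} [Field k]

local notation "R₂" => MvPolynomial (Fin 2) k

/-- A polynomial in the first variable. -/
noncomputable def inc : k[X] →ₐ[k] R₂ := Polynomial.aeval (MvPolynomial.X 0)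

lemma pderiv_zero_inc (P : k[X]) : MvPolynomial.pderiv 0 (inc P) = inc (derivative P) := by
  induction P using Polynomial.induction_on' with
  | add p q hp hq => simp [hp, hq]
  | monomial n a => simp [inc, derivative_monomial, mul_assoc]

lemma pderiv_one_inc (P : k[X]) : MvPolynomial.pderiv 1 (inc P) = 0 := by
  induction P using Polynomial.induction_on' with
  | add p q hp hq => simp [hp, hq]
  | monomial n a => simp [inc]

variable (F G : k[X])

/-- The chart equations `F + G w`. -/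
noncomputable def chart : R₂ := inc F + inc G * MvPolynomial.X 1

lemma pderiv_zero_chart : MvPolynomial.pderiv 0 (chart F G) = inc (derivative F) + inc (derivative G) * MvPolynomial.X 1 := by
  simp [chart, pderiv_zero_inc, mul_comm]

lemma pderiv_one_chart : MvPolynomial.pderiv 1 (chart F G) = inc G := by
  simp [chart, pderiv_one_inc]

variable {F G}

lemma jac_chart_of_coprime (h : IsCoprime F G) : jac (chart F G) = ⊤ := by
  obtain ⟨a, b, hab⟩ := h
  refine (Ideal.eq_top_iff_one _).2 ?_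
  have h1 : (1 : R₂) = inc a * chart F G + (inc b - inc a * MvPolynomial.X 1) * MvPolynomial.pderiv 1 (chart F G) := by
    have := congrArg (inc (k := k)) hab
    simp only [map_add, map_mul, map_one] at this
    rw [pderiv_one_chart, chart]
    linear_combination -this
  rw [h1]
  exact add_mem (Ideal.mem_sup_left (Ideal.mul_mem_left _ _ (Ideal.mem_span_singleton_self _)))
    (Ideal.mem_sup_right (Ideal.mul_mem_left _ _ (Ideal.subset_span ⟨1, rfl⟩)))

lemma chart_ne_zero (h : F ≠ 0 ∨ G ≠ 0) : chart F G ≠ 0 := fun h0 => by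
  have hval : ∀ P : k[X], MvPolynomial.aeval (![Polynomial.X, 0] : Fin 2 → k[X]) (inc P) = P := fun P => by
    rw [inc, ← Polynomial.aeval_algHom_apply]
    simp
  have h1 : inc G = 0 := by rw [← pderiv_one_chart F G, h0, map_zero]
  have h2 : inc F = 0 := by simpa [chart, h1] using h0
  rcases h with h | h
  · exact h (by rw [← hval F, h2, map_zero])
  · exact h (by rw [← hval G, h1, map_zero])

lemma exists_common_root (hne : F ≠ 0 ∨ G ≠ 0) (h : ¬ IsCoprime F G) :
    ∃ (K : Type u) (_ : Field K) (_ : Algebra k K) (α : K), aeval α F = 0 ∧ aeval α G = 0 := by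
  by_contra hc
  refine h (isCoprime_of_prime_dvd (by tauto) fun p hp hpF hpG => hc ?_)
  haveI : Fact (Irreducible p) := ⟨hp.irreducible⟩
  refine ⟨AdjoinRoot p, inferInstance, inferInstance, AdjoinRoot.root p, ?_, ?_⟩ <;>
  · rw [AdjoinRoot.aeval_eq, AdjoinRoot.mk_eq_zero]
    assumption

/-- The two charts over an affine line are smooth exactly when the forms have no common zero there. -/
theorem smooth_charts_iff (hne : F ≠ 0 ∨ G ≠ 0) :
    (Algebra.Smooth k (R₂ ⧸ Ideal.span {chart F G}) ∧ Algebra.Smooth k (R₂ ⧸ Ideal.span {chart G F})) ↔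
      IsCoprime F G := by
  rw [smooth_iff_jac _ (chart_ne_zero hne), smooth_iff_jac _ (chart_ne_zero hne.symm)]
  refine ⟨fun ⟨h1, h2⟩ => ?_, fun h => ⟨jac_chart_of_coprime h, jac_chart_of_coprime h.symm⟩⟩
  by_contra hc
  obtain ⟨K, _, _, α, hF, hG⟩ := exists_common_root hne hc
  have key : ∀ (P Q : k[X]), aeval α P = 0 → aeval α Q = 0 → jac (chart P Q) = ⊤ → ∀ w : K,
      aeval α (derivative P) + aeval α (derivative Q) * w ≠ 0 := fun P Q hP hQ hj w h0 => by
    let e : R₂ →ₐ[k] K := MvPolynomial.aeval ![α, w]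
    have he : ∀ A : k[X], e (inc A) = aeval α A := fun A => by
      rw [inc, ← Polynomial.aeval_algHom_apply]
      simp [e]
    have hw : e (MvPolynomial.X 1) = w := by simp [e]
    have hle : jac (chart P Q) ≤ RingHom.ker e := by
      refine sup_le ((Ideal.span_singleton_le_iff_mem _).2 ?_) (Ideal.span_le.2 ?_)
      · simp [RingHom.mem_ker, chart, he, hw, hP, hQ]
      · rintro _ ⟨j, rfl⟩
        fin_cases j
        · simp [RingHom.mem_ker, pderiv_zero_chart, he, hw, h0]
        · simp [RingHom.mem_ker, pderiv_one_chart, he, hQ]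
    have := hle ((Ideal.eq_top_iff_one _).1 hj)
    simp [RingHom.mem_ker] at this
  by_cases hG' : aeval α (derivative G) = 0
  · exact key G F hG hF h2 0 (by simp [hG'])
  · exact key F G hF hG h1 (-aeval α (derivative F) / aeval α (derivative G)) (by field_simp; ring)

/-- The reversed polynomial of a coefficient vector. -/
lemma coeff_sum_C_mul_X_pow {m : ℕ} (c : Fin (m + 1) → k) (e : Fin (m + 1) → ℕ) (he : Function.Injective e)
    (i : Fin (m + 1)) : (∑ j, C (c j) * X ^ e j).coeff (e i) = c i := by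
  rw [finsetSum_coeff, Finset.sum_eq_single i]
  · simp
  · intro j _ hji
    rw [coeff_C_mul_X_pow, if_neg fun h => hji (he h).symm]
  · simp

lemma natDegree_sum_le {m : ℕ} (c : Fin (m + 1) → k) (e : Fin (m + 1) → ℕ) (he : ∀ j, e j ≤ m) :
    (∑ j, C (c j) * X ^ e j).natDegree ≤ m :=
  natDegree_sum_le_of_forall_le _ _ fun j _ => (natDegree_C_mul_X_pow_le _ _).trans (he j)

lemma aeval_rev {m : ℕ} (c : Fin (m + 1) → k) {K : Type u} [Field K] [Algebra k K] {α : K} (hα : α ≠ 0) :
    aeval α (∑ j : Fin (m + 1), C (c j) * X ^ (m - (j : ℕ))) =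
      α ^ m * aeval α⁻¹ (∑ j : Fin (m + 1), C (c j) * X ^ (j : ℕ)) := by
  rw [map_sum, map_sum, Finset.mul_sum]
  refine Finset.sum_congr rfl fun j _ => ?_
  simp only [map_mul, map_pow, aeval_C, aeval_X]
  rw [pow_sub₀ α hα (Nat.lt_succ_iff.1 j.2), inv_pow]
  ring

theorem coprime_iff_resultant {n : ℕ} (hn : 0 < n) (q : Fin 3 → k) (ξ : Fin (n + 1) → k) (hqξ : q ≠ 0 ∨ ξ ≠ 0) :
    (IsCoprime (∑ i : Fin 3, C (q i) * X ^ (i : ℕ)) (∑ j : Fin (n + 1), C (ξ j) * X ^ (j : ℕ)) ∧
      IsCoprime (∑ i : Fin 3, C (q i) * X ^ (2 - (i : ℕ))) (∑ j : Fin (n + 1), C (ξ j) * X ^ (n - (j : ℕ)))) ↔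
    resultant (∑ i : Fin 3, C (q i) * X ^ (i : ℕ)) (∑ j : Fin (n + 1), C (ξ j) * X ^ (j : ℕ)) 2 n ≠ 0 := by
  set F := ∑ i : Fin 3, C (q i) * X ^ (i : ℕ) with hFd
  set G := ∑ j : Fin (n + 1), C (ξ j) * X ^ (j : ℕ) with hGd
  set F' := ∑ i : Fin 3, C (q i) * X ^ (2 - (i : ℕ)) with hFd'
  set G' := ∑ j : Fin (n + 1), C (ξ j) * X ^ (n - (j : ℕ)) with hGd'
  have hF2 : F.natDegree ≤ 2 := natDegree_sum_le q _ fun j => Nat.lt_succ_iff.1 j.2
  have hGn : G.natDegree ≤ n := natDegree_sum_le ξ _ fun j => Nat.lt_succ_iff.1 j.2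
  have cF : ∀ i : Fin 3, F.coeff (i : ℕ) = q i := coeff_sum_C_mul_X_pow q _ Fin.val_injective
  have cG : ∀ j : Fin (n + 1), G.coeff (j : ℕ) = ξ j := coeff_sum_C_mul_X_pow ξ _ Fin.val_injective
  have cF' : ∀ i : Fin 3, F'.coeff (2 - (i : ℕ)) = q i :=
    coeff_sum_C_mul_X_pow q _ fun a b h => Fin.ext (by have := a.2; have := b.2; omega)
  have cG' : ∀ j : Fin (n + 1), G'.coeff (n - (j : ℕ)) = ξ j :=
    coeff_sum_C_mul_X_pow ξ _ fun a b h => Fin.ext (by have := a.2; have := b.2; omega)
  have t1 : F'.coeff 0 = F.coeff 2 := by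
    rw [show F.coeff 2 = q 2 from cF 2, show F'.coeff 0 = q 2 from cF' 2]
  have t2 : G'.coeff 0 = G.coeff n := by
    rw [show G.coeff n = ξ (Fin.last n) from cG (Fin.last n),
      ← show G'.coeff (n - n) = ξ (Fin.last n) from cG' (Fin.last n), Nat.sub_self]
  constructor
  · rintro ⟨hc, hc'⟩
    have htop : F.coeff 2 ≠ 0 ∨ G.coeff n ≠ 0 := by
      by_contra hcon
      push Not at hcon
      exact not_isUnit_X (hc'.isUnit_of_dvd' (X_dvd_iff.2 (t1.trans hcon.1)) (X_dvd_iff.2 (t2.trans hcon.2)))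
    have hne : resultant F G ≠ 0 := fun h => (resultant_eq_zero_iff.1 h).2 hc
    rcases htop with h | h
    · have hd : F.natDegree = 2 := le_antisymm hF2 (le_natDegree_of_ne_zero h)
      obtain ⟨d, hd'⟩ := Nat.exists_eq_add_of_le hGn
      rw [hd', resultant_add_right_deg _ _ _ _ _ le_rfl, ← hd]
      exact mul_ne_zero (pow_ne_zero _ (by rwa [hd])) hne
    · have hd : G.natDegree = n := le_antisymm hGn (le_natDegree_of_ne_zero h)
      obtain ⟨d, hd'⟩ := Nat.exists_eq_add_of_le hF2
      rw [hd', resultant_add_left_deg _ _ _ _ _ le_rfl]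
      refine mul_ne_zero (mul_ne_zero (pow_ne_zero _ (by norm_num)) (pow_ne_zero _ h)) ?_
      rwa [hd] at hne
  · intro hres
    have hc : IsCoprime F G := by
      obtain ⟨p, r, -, -, e⟩ := exists_mul_add_mul_eq_C_resultant F G hF2 hGn (Or.inl two_ne_zero)
      refine ⟨C (resultant F G 2 n)⁻¹ * p, C (resultant F G 2 n)⁻¹ * r, ?_⟩
      rw [mul_assoc, mul_assoc, ← mul_add, mul_comm p, mul_comm r, e, ← C_mul, inv_mul_cancel₀ hres, C_1]
    refine ⟨hc, ?_⟩
    have hne' : F' ≠ 0 ∨ G' ≠ 0 := by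
      refine hqξ.imp (fun h h0 => h (funext fun i => ?_)) (fun h h0 => h (funext fun j => ?_))
      · rw [← cF' i, h0]; rfl
      · rw [← cG' j, h0]; rfl
    by_contra hc'
    obtain ⟨K, _, _, α, hF, hG⟩ := exists_common_root hne' hc'
    rcases eq_or_ne α 0 with rfl | hα
    · rw [← coeff_zero_eq_aeval_zero', map_eq_zero, t1] at hF
      rw [← coeff_zero_eq_aeval_zero', map_eq_zero, t2] at hG
      apply hres
      refine resultant_eq_zero_of_lt_lt _ _ _ _ ?_ ?_
      · exact lt_of_le_of_ne hF2 fun h => by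
          have : F = 0 := leadingCoeff_eq_zero.1 (by rw [leadingCoeff, h]; exact hF)
          simp [this] at h
      · exact lt_of_le_of_ne hGn fun h => by
          have : G = 0 := leadingCoeff_eq_zero.1 (by rw [leadingCoeff, h]; exact hG)
          simp [this] at h; omega
    · rw [hFd', aeval_rev q hα, mul_eq_zero] at hF
      rw [hGd', aeval_rev ξ hα, mul_eq_zero] at hG
      obtain ⟨a, b, hab⟩ := hc
      have := congrArg (aeval α⁻¹) hab
      rw [map_add, map_mul, map_mul, hF.resolve_left (pow_ne_zero _ hα), hG.resolve_left (pow_ne_zero _ hα)] at this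
      simp at this

lemma inc_sum {m : ℕ} (c : Fin m → k) (e : Fin m → ℕ) :
    inc (∑ j, C (c j) * X ^ e j) = ∑ j, MvPolynomial.C (c j) * MvPolynomial.X 0 ^ e j := by
  simp [inc, map_sum]

end Groth.Agent.HirzCurve
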